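import Groth.Agent.GrTopDual.HMap
import Groth.Agent.GrLCLib.SES

/-!
# Exactness of top graded local cohomology at the last two terms

For a short exact sequence of graded modules the cone of the two resolutions resolves the right hand term;
reading classes there gives exactness in the middle and, when the next cohomology of the left term vanishes,
surjectivity on the right.
-/

set_option autoImplicit false
set_option linter.unusedSectionVars false
set_option linter.style.haveILetI false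
set_option backward.isDefEq.respectTransparency false
set_option backward.isDefEq.respectTransparency.types false

universe u

open scoped Classical
open DirectSum Groth.Agent.GrLCLib

noncomputable section

namespace Groth.Agent.GrTopDual

variable {ι : Type} [AddCommGroup ι] [DecidableEq ι]
variable {R : Type u} [CommRing R] {σ : Type u} [SetLike σ R] [AddSubgroupClass σ R] {𝒜 : ι → σ} [GradedRing 𝒜]
variable {MA : Type u} [AddCommGroup MA] [Module R MA] {τA : Type u} [SetLike τA MA] [AddSubgroupClass τA MA]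
  {ℳA : ι → τA} [DirectSum.Decomposition ℳA] [SetLike.GradedSMul 𝒜 ℳA]
variable {MB : Type u} [AddCommGroup MB] [Module R MB] {τB : Type u} [SetLike τB MB] [AddSubgroupClass τB MB]
  {ℳB : ι → τB} [DirectSum.Decomposition ℳB] [SetLike.GradedSMul 𝒜 ℳB]
variable {MC : Type u} [AddCommGroup MC] [Module R MC] {τC : Type u} [SetLike τC MC] [AddSubgroupClass τC MC]
  {ℳC : ι → τC} [DirectSum.Decomposition ℳC] [SetLike.GradedSMul 𝒜 ℳC]
variable {EA : GrLC.StarInjRes 𝒜 ℳA} {EB : GrLC.StarInjRes 𝒜 ℳB} {f : MA →ₗ[R] MB} (φ : RMap EA EB f)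
  (r : (W EA EB 0).carrier →ₗ[R] (EA.X 0).carrier) (hr : GrLC.IsGrHom (W EA EB 0).gr (EA.X 0).gr r)
  (hrj : ∀ y, r (jW φ y) = y)

/-- From the cone to pairs. -/
def pairOf : ∀ i, (coneX r hr i).carrier →ₗ[R] (W EA EB i).carrier
  | 0 => incY0 r hr
  | _ + 1 => LinearMap.id

lemma dW_pairOf : ∀ (i : ℕ) (z : (coneX r hr i).carrier), dW φ i (pairOf r hr i z) = coneDiff φ r hr i z
  | 0, _ => rfl
  | _ + 1, _ => rfl

/-- From pairs to the cone. -/
def ofPair : ∀ i, (W EA EB i).carrier →ₗ[R] (coneX r hr i).carrier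
  | 0 => prY0 φ r hr hrj
  | _ + 1 => LinearMap.id

lemma ofPair_grHom : ∀ i, GrLC.IsGrHom (W EA EB i).gr (coneX r hr i).gr (ofPair φ r hr hrj i)
  | 0 => prY0_grHom φ r hr hrj
  | _ + 1 => fun _ _ hx => hx

lemma coneDiff_ofPair : ∀ (i : ℕ) (w : (W EA EB i).carrier),
    coneDiff φ r hr i (ofPair φ r hr hrj i w) = dW φ i w
  | 0, w => by
    show dW φ 0 (incY0 r hr (prY0 φ r hr hrj w)) = dW φ 0 w
    rw [incY0_prY0, map_sub, dW_jW, sub_zero]
  | _ + 1, _ => rfl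

lemma ofPair_pairOf : ∀ (i : ℕ) (y : (coneX r hr i).carrier), ofPair φ r hr hrj i (pairOf r hr i y) = y
  | 0, y => incY0_injective r hr (by
    show incY0 r hr (prY0 φ r hr hrj (incY0 r hr y)) = incY0 r hr y
    rw [incY0_prY0, r_incY0, map_zero, sub_zero])
  | _ + 1, _ => rfl

lemma ofPair_jW (y : (EA.X 0).carrier) : ofPair φ r hr hrj 0 (jW φ y) = 0 := incY0_injective r hr (by
  show incY0 r hr (prY0 φ r hr hrj (jW φ y)) = incY0 r hr 0
  rw [incY0_prY0, hrj, sub_self, map_zero])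

variable {g : MB →ₗ[R] MC} (hg : Function.Surjective g) (hfg : LinearMap.range f = LinearMap.ker g)
  (hgg : GrLC.IsGrHom ℳB ℳC g) (a : HomogeneousIdeal 𝒜)

/-- The map from the middle resolution to the cone, lifting the surjection. -/
def toCone : RMap EB (coneRes φ r hr hrj g hg hfg hgg) g where
  φ i := ofPair φ r hr hrj i ∘ₗ LinearMap.inr R (EA.X (i + 1)).carrier (EB.X i).carrier
  gr i e x hx := ofPair_grHom φ r hr hrj i e _ ⟨zero_mem _, hx⟩
  ε m := (εC_g φ r hr hrj g hg hfg m).symm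
  comm i x := by
    refine Eq.trans ?_ (coneDiff_ofPair φ r hr hrj i _).symm
    show ((0, EB.d i x) : (W EA EB (i + 1)).carrier) = dW φ i (0, x)
    rw [dW_apply, map_zero, map_zero, neg_zero, add_zero]

lemma toCone_apply (i : ℕ) (x : (EB.X i).carrier) :
    (toCone φ r hr hrj hg hfg hgg).φ i x = ofPair φ r hr hrj i (0, x) := rfl

/-- Classes of the cone come from the middle term when the next class group on the left vanishes. -/
theorem exists_toCone_preimage {i : ℕ}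
    (hA : ∀ p ∈ EA.cocyc a (i + 1), p ∈ EA.cobdy a (i + 1))
    {z : ((coneRes φ r hr hrj g hg hfg hgg).X i).carrier} (hz : z ∈ (coneRes φ r hr hrj g hg hfg hgg).cocyc a i) :
    ∃ q ∈ EB.cocyc a i,
      (toCone φ r hr hrj hg hfg hgg).φ i q - z ∈ (coneRes φ r hr hrj g hg hfg hgg).cobdy a i := by
  have hwd : dW φ i ((pairOf r hr i z).1, (pairOf r hr i z).2) = 0 := (dW_pairOf φ r hr i z).trans hz.2
  rw [dW_apply] at hwd
  have hwg := map_mem_gam (pairOf r hr i) hz.1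
  have hp : (pairOf r hr i z).1 ∈ EA.cocyc a (i + 1) :=
    ⟨map_mem_gam (LinearMap.fst R _ _) hwg, neg_eq_zero.1 (congrArg Prod.fst hwd)⟩
  obtain ⟨p', hp', hpp⟩ := hA _ hp
  let q := (pairOf r hr i z).2 + φ.φ i p'
  refine ⟨q, ⟨Submodule.add_mem _ (map_mem_gam (LinearMap.snd R _ _) hwg) (map_mem_gam _ hp'), ?_⟩, ?_⟩
  · show EB.d i ((pairOf r hr i z).2 + φ.φ i p') = 0
    rw [map_add, ← φ.comm, hpp]
    exact congrArg Prod.snd hwd
  · have e : (toCone φ r hr hrj hg hfg hgg).φ i q - z = ofPair φ r hr hrj i (-(EA.d i p'), φ.φ i p') := by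
      let zz : (coneX r hr i).carrier := z
      show ofPair φ r hr hrj i (0, q) - zz = _
      refine (congrArg (ofPair φ r hr hrj i (0, q) - ·) (ofPair_pairOf φ r hr hrj i zz).symm).trans ?_
      refine (map_sub _ _ _).symm.trans (congrArg _ (Prod.ext ?_ ?_))
      · show 0 - (pairOf r hr i z).1 = -(EA.d i p')
        rw [hpp, zero_sub]
      · show (pairOf r hr i z).2 + φ.φ i p' - (pairOf r hr i z).2 = φ.φ i p'
        abel
    rw [e]
    cases i with
    | zero => rw [← jW_apply φ p', ofPair_jW]; exact Submodule.zero_mem _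
    | succ i =>
      refine ⟨ofPair φ r hr hrj i (p', 0), map_mem_gam _ (mem_gam_prod a hp' (Submodule.zero_mem _)), ?_⟩
      refine (coneDiff_ofPair φ r hr hrj i _).trans ?_
      show dW φ i (p', 0) = (-(EA.d (i + 1) p'), φ.φ (i + 1) p')
      rw [dW_apply, map_zero, zero_add]

/-- A class of the middle term dying in the cone comes from the left. -/
theorem exists_left_preimage {i : ℕ} {z : (EB.X i).carrier} (hz : z ∈ EB.cocyc a i)
    (h : (toCone φ r hr hrj hg hfg hgg).φ i z ∈ (coneRes φ r hr hrj g hg hfg hgg).cobdy a i) :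
    ∃ p ∈ EA.cocyc a i, φ.φ i p - z ∈ EB.cobdy a i := by
  cases i with
  | zero =>
    have h3 : prY0 φ r hr hrj (0, z) = 0 := (Submodule.mem_bot R).1 h
    have h4 := incY0_prY0 φ r hr hrj ((0, z) : (W EA EB 0).carrier)
    rw [h3, map_zero, eq_comm, sub_eq_zero] at h4
    refine ⟨r (0, z), ⟨map_mem_gam r (mem_gam_prod a (Submodule.zero_mem _) hz.1), ?_⟩, ?_⟩
    · exact neg_eq_zero.1 (congrArg Prod.fst h4).symm
    · rw [show φ.φ 0 (r (0, z)) = z from (congrArg Prod.snd h4).symm, sub_self]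
      exact Submodule.zero_mem _
  | succ i =>
    obtain ⟨w, hwg, hwd⟩ := h
    have h3 : dW φ i ((pairOf r hr i w).1, (pairOf r hr i w).2) = (0, z) := (dW_pairOf φ r hr i w).trans hwd
    rw [dW_apply] at h3
    refine ⟨(pairOf r hr i w).1,
      ⟨map_mem_gam (LinearMap.fst R _ _) (map_mem_gam (pairOf r hr i) hwg), neg_eq_zero.1 (congrArg Prod.fst h3)⟩,
      ⟨-(pairOf r hr i w).2, Submodule.neg_mem _ (map_mem_gam (LinearMap.snd R _ _) (map_mem_gam (pairOf r hr i) hwg)), ?_⟩⟩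
    rw [← show EB.d i (pairOf r hr i w).2 + φ.φ (i + 1) (pairOf r hr i w).1 = z from congrArg Prod.snd h3, map_neg]
    abel

omit φ in
/-- Degree-zero maps as lifts of homogeneous maps. -/
def ofRMap {M N : Type u} [AddCommGroup M] [Module R M] [AddCommGroup N] [Module R N]
    {τ τ' : Type u} [SetLike τ M] [AddSubgroupClass τ M] [SetLike τ' N] [AddSubgroupClass τ' N]
    {ℳ : ι → τ} [DirectSum.Decomposition ℳ] [SetLike.GradedSMul 𝒜 ℳ]
    {𝒩 : ι → τ'} [DirectSum.Decomposition 𝒩] [SetLike.GradedSMul 𝒜 𝒩]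
    {E : GrLC.StarInjRes 𝒜 ℳ} {E' : GrLC.StarInjRes 𝒜 𝒩} {g : M →ₗ[R] N} (ψ : RMap E E' g) :
    DMap E E' g 0 :=
  ⟨ψ.φ, fun i e x hx => by rw [add_zero]; exact ψ.gr i e x hx, ψ.ε, ψ.comm⟩

variable {h : MA →ₗ[R] MB} {p : MB →ₗ[R] MC}

/-- Surjectivity on the right. -/
theorem Hmap_surjective (hs : IsSES ℳA ℳB ℳC h p) (EA' : GrLC.StarInjRes 𝒜 ℳA) (EB' : GrLC.StarInjRes 𝒜 ℳB)
    (EC : GrLC.StarInjRes 𝒜 ℳC) (i : ℕ) (hA : Subsingleton (EA'.H a (i + 1)))
    (hp : GrLC.IsGrHomDeg ℳB ℳC p 0) : Function.Surjective (Hmap a i EB' EC p 0 hp) := by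
  obtain ⟨φ₀⟩ := exists_rmap EA' EB' h hs.grf
  obtain ⟨r₀, hr₀, hrj₀⟩ := exists_retraction φ₀ hs.inj
  let EK := coneRes φ₀ r₀ hr₀ hrj₀ p hs.surj hs.exact hs.grg
  obtain ⟨χ⟩ := exists_rmap EK EC LinearMap.id (fun _ _ hx => hx)
  obtain ⟨ψ⟩ := exists_rmap EC EK LinearMap.id (fun _ _ hx => hx)
  let β := toCone φ₀ r₀ hr₀ hrj₀ hs.surj hs.exact hs.grg
  let Φ : DMap EB' EC p 0 := ofRMap
    { φ := fun j => χ.φ j ∘ₗ β.φ j
      gr := fun j e x hx => χ.gr j e _ (β.gr j e x hx)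
      ε := fun m => by rw [LinearMap.comp_apply, β.ε, χ.ε]; rfl
      comm := fun j x => by rw [LinearMap.comp_apply, β.comm, χ.comm]; rfl }
  rw [Hmap_eq a i Φ]
  intro y
  obtain ⟨z, rfl⟩ := Submodule.Quotient.mk_surjective _ y
  obtain ⟨q, hq, hqz⟩ := exists_toCone_preimage φ₀ r₀ hr₀ hrj₀ hs.surj hs.exact hs.grg a
    (fun w hw => (Submodule.Quotient.mk_eq_zero ((EA'.cobdy a (i + 1)).comap (EA'.cocyc a (i + 1)).subtype)).1
      (Subsingleton.elim (EA'.toH a (i + 1) ⟨w, hw⟩) 0)) (ψ.map_cocyc a z.2)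
  refine ⟨EB'.toH a i ⟨q, hq⟩, (Submodule.Quotient.eq ((EC.cobdy a i).comap (EC.cocyc a i).subtype)).2 ?_⟩
  show χ.φ i (β.φ i q) - (z : (EC.X i).carrier) ∈ EC.cobdy a i
  have h1 := χ.map_cobdy a hqz
  rw [map_sub] at h1
  simpa using Submodule.add_mem _ h1 (roundtrip ψ χ a z.2)

/-- Exactness in the middle. -/
theorem Hmap_exact (hs : IsSES ℳA ℳB ℳC h p) (EA' : GrLC.StarInjRes 𝒜 ℳA) (EB' : GrLC.StarInjRes 𝒜 ℳB)
    (EC : GrLC.StarInjRes 𝒜 ℳC) (i : ℕ) (hh : GrLC.IsGrHomDeg ℳA ℳB h 0) (hp : GrLC.IsGrHomDeg ℳB ℳC p 0)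
    (x : EB'.H a i) (hx : Hmap a i EB' EC p 0 hp x = 0) : ∃ y, Hmap a i EA' EB' h 0 hh y = x := by
  obtain ⟨φ₀⟩ := exists_rmap EA' EB' h hs.grf
  obtain ⟨r₀, hr₀, hrj₀⟩ := exists_retraction φ₀ hs.inj
  let EK := coneRes φ₀ r₀ hr₀ hrj₀ p hs.surj hs.exact hs.grg
  obtain ⟨χ⟩ := exists_rmap EK EC LinearMap.id (fun _ _ hx => hx)
  obtain ⟨ψ⟩ := exists_rmap EC EK LinearMap.id (fun _ _ hx => hx)
  let β := toCone φ₀ r₀ hr₀ hrj₀ hs.surj hs.exact hs.grg
  let Φ : DMap EB' EC p 0 := ofRMap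
    { φ := fun j => χ.φ j ∘ₗ β.φ j
      gr := fun j e x hx => χ.gr j e _ (β.gr j e x hx)
      ε := fun m => by rw [LinearMap.comp_apply, β.ε, χ.ε]; rfl
      comm := fun j x => by rw [LinearMap.comp_apply, β.comm, χ.comm]; rfl }
  rw [Hmap_eq a i Φ] at hx
  obtain ⟨z, rfl⟩ := Submodule.Quotient.mk_surjective _ x
  have h1 : χ.φ i (β.φ i z) ∈ EC.cobdy a i :=
    (Submodule.Quotient.mk_eq_zero ((EC.cobdy a i).comap (EC.cocyc a i).subtype)).1 hx
  have h2 := Submodule.sub_mem _ (ψ.map_cobdy a h1) (roundtrip χ ψ a (β.map_cocyc a z.2))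
  rw [sub_sub_cancel] at h2
  obtain ⟨w, hw, hwz⟩ := exists_left_preimage φ₀ r₀ hr₀ hrj₀ hs.surj hs.exact hs.grg a z.2 h2
  refine ⟨EA'.toH a i ⟨w, hw⟩, ?_⟩
  rw [Hmap_eq a i (ofRMap φ₀)]
  exact (Submodule.Quotient.eq ((EB'.cobdy a i).comap (EB'.cocyc a i).subtype)).2 hwz

end Groth.Agent.GrTopDual
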