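import Groth.Agent.GrLCLib.Shift
import Groth.Agent.GrLCLib.Total

/-!
# Maps induced on graded local cohomology by homogeneous maps of arbitrary degree

A map of degree `δ` lifts to the resolutions, uniquely up to homotopy, so it induces a well defined linear
map on cohomology which shifts the degrees by `δ`.
-/

set_option autoImplicit false
set_option linter.unusedSectionVars false
set_option linter.style.haveILetI false

universe u

open scoped Classical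
open DirectSum Groth.Agent.GrLCLib

noncomputable section

namespace Groth.Agent.GrTopDual

variable {ι : Type} [AddCommGroup ι] [DecidableEq ι]
variable {R : Type u} [CommRing R] {σ : Type u} [SetLike σ R] [AddSubgroupClass σ R] {𝒜 : ι → σ} [GradedRing 𝒜]
variable {M : Type u} [AddCommGroup M] [Module R M] {τ : Type u} [SetLike τ M] [AddSubgroupClass τ M]
  {ℳ : ι → τ} [DirectSum.Decomposition ℳ] [SetLike.GradedSMul 𝒜 ℳ]
variable {N : Type u} [AddCommGroup N] [Module R N] {τ' : Type u} [SetLike τ' N] [AddSubgroupClass τ' N]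
  {𝒩 : ι → τ'} [DirectSum.Decomposition 𝒩] [SetLike.GradedSMul 𝒜 𝒩]
variable {P : Type u} [AddCommGroup P] [Module R P] {τ'' : Type u} [SetLike τ'' P] [AddSubgroupClass τ'' P]
  {𝒬 : ι → τ''} [DirectSum.Decomposition 𝒬] [SetLike.GradedSMul 𝒜 𝒬]

/-- A lift of a map of degree `δ` to the resolutions. -/
structure DMap (E : GrLC.StarInjRes 𝒜 ℳ) (E' : GrLC.StarInjRes 𝒜 𝒩) (f : M →ₗ[R] N) (δ : ι) where
  φ : ∀ i, (E.X i).carrier →ₗ[R] (E'.X i).carrier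
  gr : ∀ i, GrLC.IsGrHomDeg (E.X i).gr (E'.X i).gr (φ i) δ
  ε : ∀ m, φ 0 (E.ε m) = E'.ε (f m)
  comm : ∀ i x, φ (i + 1) (E.d i x) = E'.d i (φ i x)

variable {E : GrLC.StarInjRes 𝒜 ℳ} {E' : GrLC.StarInjRes 𝒜 𝒩} {E'' : GrLC.StarInjRes 𝒜 𝒬}
variable {f : M →ₗ[R] N} {δ : ι}

theorem exists_dmap (E : GrLC.StarInjRes 𝒜 ℳ) (E' : GrLC.StarInjRes 𝒜 𝒩) (hf : GrLC.IsGrHomDeg ℳ 𝒩 f δ) :
    Nonempty (DMap E E' f δ) := by
  letI := shiftDec 𝒩 δ
  obtain ⟨φ⟩ := exists_rmap E (shiftRes E' δ) f (fun g m hm => hf g m hm)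
  exact ⟨⟨φ.φ, fun i g x hx => φ.gr i g x hx, φ.ε, φ.comm⟩⟩

namespace DMap

variable (φ ψ : DMap E E' f δ) (a : HomogeneousIdeal 𝒜)

lemma map_cocyc {i : ℕ} {z : (E.X i).carrier} (hz : z ∈ E.cocyc a i) : φ.φ i z ∈ E'.cocyc a i :=
  ⟨map_mem_gam _ hz.1, by
    show E'.d i (φ.φ i z) = 0
    rw [← φ.comm, show E.d i z = 0 from hz.2, map_zero]⟩

lemma map_cobdy : ∀ {i : ℕ} {z : (E.X i).carrier}, z ∈ E.cobdy a i → φ.φ i z ∈ E'.cobdy a i
  | 0, z, hz => by rw [(Submodule.mem_bot R).1 hz, map_zero]; exact Submodule.zero_mem _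
  | i + 1, _, ⟨w, hw, hwz⟩ => ⟨φ.φ i w, map_mem_gam _ hw, by rw [← φ.comm, hwz]⟩

/-- The map on cohomology. -/
def hH (i : ℕ) : E.H a i →ₗ[R] E'.H a i :=
  Submodule.mapQ ((E.cobdy a i).comap (E.cocyc a i).subtype) ((E'.cobdy a i).comap (E'.cocyc a i).subtype)
    ((φ.φ i).restrict fun _ hz => φ.map_cocyc a hz) fun _ hz => φ.map_cobdy a hz

lemma hH_toH {i : ℕ} (z : E.cocyc a i) : φ.hH a i (E.toH a i z) = E'.toH a i ⟨φ.φ i z, φ.map_cocyc a z.2⟩ := rfl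

/-- Lifts of the same map give the same map on cohomology. -/
theorem hH_eq (i : ℕ) : φ.hH a i = ψ.hH a i := by
  letI := shiftDec 𝒩 δ
  let χ : RMap E (shiftRes E' δ) (0 : M →ₗ[R] N) :=
    { φ := fun i => φ.φ i - ψ.φ i
      gr := fun i g x hx => ((E'.X i).gr (g + δ)).sub_mem (φ.gr i g x hx) (ψ.gr i g x hx)
      ε := fun m => by
        show φ.φ 0 (E.ε m) - ψ.φ 0 (E.ε m) = E'.ε ((0 : M →ₗ[R] N) m)
        rw [φ.ε, ψ.ε, sub_self, LinearMap.zero_apply, map_zero]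
      comm := fun i x => by
        show φ.φ (i + 1) (E.d i x) - ψ.φ (i + 1) (E.d i x) = E'.d i (φ.φ i x - ψ.φ i x)
        rw [φ.comm, ψ.comm, map_sub] }
  obtain ⟨h, -, h0, h1⟩ := exists_null E (shiftRes E' δ) χ rfl
  refine LinearMap.ext fun x => ?_
  obtain ⟨z, rfl⟩ := Submodule.Quotient.mk_surjective _ x
  refine (Submodule.Quotient.eq ((E'.cobdy a i).comap (E'.cocyc a i).subtype)).2 ?_
  show φ.φ i (z : (E.X i).carrier) - ψ.φ i z ∈ E'.cobdy a i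
  cases i with
  | zero =>
    have e : φ.φ 0 (z : (E.X 0).carrier) - ψ.φ 0 z = h 0 (E.d 0 z) := h0 z
    rw [e, show E.d 0 (z : (E.X 0).carrier) = 0 from z.2.2]
    exact Submodule.mem_bot R |>.2 (map_zero (h 0))
  | succ i =>
    have e2 : h (i + 1) (E.d (i + 1) (z : (E.X (i + 1)).carrier)) = 0 := by
      rw [show E.d (i + 1) (z : (E.X (i + 1)).carrier) = 0 from z.2.2]
      exact map_zero _
    exact ⟨h i z, map_mem_gam (h i) z.2.1,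
      Eq.symm ((h1 i z).trans ((congrArg _ e2).trans (add_zero _)))⟩

lemma hH_mem {i : ℕ} {g : ι} {x : E.H a i} (hx : x ∈ E.Hgr a i g) : φ.hH a i x ∈ E'.Hgr a i (g + δ) := by
  obtain ⟨z, hz, rfl⟩ := hx
  exact ⟨⟨φ.φ i z, φ.map_cocyc a z.2⟩, φ.gr i g z hz, rfl⟩

end DMap

/-- The pieces of graded cohomology are compatible with the action of the ring. -/
instance hgr_gradedSMul (a : HomogeneousIdeal 𝒜) (i : ℕ) : SetLike.GradedSMul 𝒜 (E.Hgr a i) :=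
  ⟨fun {e g r _} hr hm => by
    obtain ⟨z, hz, rfl⟩ := hm
    exact ⟨r • z, SetLike.GradedSMul.smul_mem (A := 𝒜) (B := (E.X i).gr) hr hz, map_smul _ _ _⟩⟩

/-- The map on cohomology induced by a map of degree `δ`. -/
def Hmap (a : HomogeneousIdeal 𝒜) (i : ℕ) (E : GrLC.StarInjRes 𝒜 ℳ) (E' : GrLC.StarInjRes 𝒜 𝒩)
    (f : M →ₗ[R] N) (δ : ι) (hf : GrLC.IsGrHomDeg ℳ 𝒩 f δ) : E.H a i →ₗ[R] E'.H a i :=
  (exists_dmap E E' hf).some.hH a i

variable (a : HomogeneousIdeal 𝒜) (i : ℕ)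

lemma Hmap_eq (φ : DMap E E' f δ) (hf : GrLC.IsGrHomDeg ℳ 𝒩 f δ) : Hmap a i E E' f δ hf = φ.hH a i :=
  DMap.hH_eq _ φ a i

lemma Hmap_mem (hf : GrLC.IsGrHomDeg ℳ 𝒩 f δ) {g : ι} {x : E.H a i} (hx : x ∈ E.Hgr a i g) :
    Hmap a i E E' f δ hf x ∈ E'.Hgr a i (g + δ) :=
  DMap.hH_mem _ a hx

attribute [irreducible] Hmap

lemma Hmap_congr {f' : M →ₗ[R] N} {δ' : ι} (h : f = f') (hδ : δ = δ') (hf : GrLC.IsGrHomDeg ℳ 𝒩 f δ)
    (hf' : GrLC.IsGrHomDeg ℳ 𝒩 f' δ') : Hmap a i E E' f δ hf = Hmap a i E E' f' δ' hf' := by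
  subst h; subst hδ; rfl

lemma Hmap_zero (hf : GrLC.IsGrHomDeg ℳ 𝒩 (0 : M →ₗ[R] N) δ) : Hmap a i E E' 0 δ hf = 0 := by
  let z : DMap E E' (0 : M →ₗ[R] N) δ :=
    { φ := fun _ => 0
      gr := fun _ _ _ _ => zero_mem _
      ε := fun _ => (map_zero E'.ε).symm
      comm := fun i _ => (map_zero (E'.d i)).symm }
  rw [Hmap_eq a i z]
  refine LinearMap.ext fun x => ?_
  obtain ⟨w, rfl⟩ := Submodule.Quotient.mk_surjective _ x
  exact map_zero (E'.toH a i)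

lemma Hmap_add {f' : M →ₗ[R] N} (hf : GrLC.IsGrHomDeg ℳ 𝒩 f δ) (hf' : GrLC.IsGrHomDeg ℳ 𝒩 f' δ)
    (hs : GrLC.IsGrHomDeg ℳ 𝒩 (f + f') δ) :
    Hmap a i E E' (f + f') δ hs = Hmap a i E E' f δ hf + Hmap a i E E' f' δ hf' := by
  obtain ⟨φ⟩ := exists_dmap E E' hf
  obtain ⟨ψ⟩ := exists_dmap E E' hf'
  let χ : DMap E E' (f + f') δ :=
    { φ := fun i => φ.φ i + ψ.φ i
      gr := fun i g x hx => add_mem (φ.gr i g x hx) (ψ.gr i g x hx)
      ε := fun m => by rw [LinearMap.add_apply, φ.ε, ψ.ε, LinearMap.add_apply, map_add]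
      comm := fun i x => by simp [φ.comm, ψ.comm] }
  rw [Hmap_eq a i χ, Hmap_eq a i φ, Hmap_eq a i ψ]
  refine LinearMap.ext fun x => ?_
  obtain ⟨w, rfl⟩ := Submodule.Quotient.mk_surjective _ x
  exact map_add (E'.toH a i) ⟨_, φ.map_cocyc a w.2⟩ ⟨_, ψ.map_cocyc a w.2⟩

lemma isGrHomDeg_sum {T : Type*} (s : Finset T) (F : T → M →ₗ[R] N) (hF : ∀ t, GrLC.IsGrHomDeg ℳ 𝒩 (F t) δ) :
    GrLC.IsGrHomDeg ℳ 𝒩 (∑ t ∈ s, F t) δ := fun g m hm => by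
  rw [LinearMap.sum_apply]
  exact sum_mem fun t _ => hF t g m hm

lemma Hmap_sum {T : Type*} (s : Finset T) (F : T → M →ₗ[R] N) (hF : ∀ t, GrLC.IsGrHomDeg ℳ 𝒩 (F t) δ) :
    Hmap a i E E' (∑ t ∈ s, F t) δ (isGrHomDeg_sum s F hF) = ∑ t ∈ s, Hmap a i E E' (F t) δ (hF t) := by
  induction s using Finset.induction with
  | empty =>
    have h0 : GrLC.IsGrHomDeg ℳ 𝒩 (0 : M →ₗ[R] N) δ := fun g m _ => zero_mem _
    rw [Hmap_congr a i Finset.sum_empty rfl _ h0, Hmap_zero a i h0, Finset.sum_empty]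
  | insert t s ht ih =>
    have hs : GrLC.IsGrHomDeg ℳ 𝒩 (F t + ∑ t ∈ s, F t) δ := fun g m hm =>
      add_mem (hF t g m hm) (isGrHomDeg_sum s F hF g m hm)
    rw [Hmap_congr a i (Finset.sum_insert ht) rfl _ hs, Hmap_add a i (hF t) (isGrHomDeg_sum s F hF) hs, ih,
      Finset.sum_insert ht]

lemma Hmap_comp {g : N →ₗ[R] P} {δ' γ : ι} (h : δ + δ' = γ) (hf : GrLC.IsGrHomDeg ℳ 𝒩 f δ)
    (hg : GrLC.IsGrHomDeg 𝒩 𝒬 g δ') (hc : GrLC.IsGrHomDeg ℳ 𝒬 (g ∘ₗ f) γ) (x : E.H a i) :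
    Hmap a i E E'' (g ∘ₗ f) γ hc x = Hmap a i E' E'' g δ' hg (Hmap a i E E' f δ hf x) := by
  obtain ⟨φ⟩ := exists_dmap E E' hf
  obtain ⟨ψ⟩ := exists_dmap E' E'' hg
  subst h
  let χ : DMap E E'' (g ∘ₗ f) (δ + δ') :=
    { φ := fun i => ψ.φ i ∘ₗ φ.φ i
      gr := fun i e x hx => by
        rw [← add_assoc]
        exact ψ.gr i _ _ (φ.gr i e x hx)
      ε := fun m => by simp [φ.ε, ψ.ε]
      comm := fun i x => by simp [φ.comm, ψ.comm] }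
  rw [Hmap_eq a i χ, Hmap_eq a i φ, Hmap_eq a i ψ]
  obtain ⟨w, rfl⟩ := Submodule.Quotient.mk_surjective _ x
  rfl

lemma Hmap_id (hf : GrLC.IsGrHomDeg ℳ ℳ (LinearMap.id : M →ₗ[R] M) (0 : ι)) (x : E.H a i) :
    Hmap a i E E LinearMap.id 0 hf x = x := by
  let χ : DMap E E (LinearMap.id : M →ₗ[R] M) 0 :=
    { φ := fun _ => LinearMap.id
      gr := fun i g x hx => by rw [add_zero]; exact hx
      ε := fun _ => rfl
      comm := fun _ _ => rfl }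
  rw [Hmap_eq a i χ]
  obtain ⟨w, rfl⟩ := Submodule.Quotient.mk_surjective _ x
  rfl

lemma Hmap_smul {r : R} {e γ : ι} (hr : r ∈ 𝒜 e) (h : e + δ = γ) (hf : GrLC.IsGrHomDeg ℳ 𝒩 f δ)
    (hrf : GrLC.IsGrHomDeg ℳ 𝒩 (r • f) γ) : Hmap a i E E' (r • f) γ hrf = r • Hmap a i E E' f δ hf := by
  obtain ⟨φ⟩ := exists_dmap E E' hf
  subst h
  let χ : DMap E E' (r • f) (e + δ) :=
    { φ := fun i => r • φ.φ i
      gr := fun i g x hx => by
        rw [show g + (e + δ) = e + (g + δ) by abel]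
        exact GrLCLib.smul_mem 𝒜 (E'.X i).gr hr (φ.gr i g x hx)
      ε := fun m => by simp [φ.ε]
      comm := fun i x => by simp [φ.comm] }
  rw [Hmap_eq a i χ, Hmap_eq a i φ]
  refine LinearMap.ext fun x => ?_
  obtain ⟨w, rfl⟩ := Submodule.Quotient.mk_surjective _ x
  exact map_smul (E'.toH a i) r ⟨_, φ.map_cocyc a w.2⟩

end Groth.Agent.GrTopDual
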