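import Groth.Agent.GrTopDual.Tensor
import Groth.Agent.GrDual.Pairing
import Groth.Agent.LocH.Grothendieck

/-!
# Graded duality for the top local cohomology

The dual of `H^n(M)` is `Hom(M, K)` where `K` is the dual of `H^n(R)`: a functional `d` corresponds to
`m ↦ (h ↦ d (φ_m h))`.
-/

set_option autoImplicit false
set_option linter.unusedSectionVars false
set_option linter.style.haveILetI false
set_option backward.isDefEq.respectTransparency false

set_option maxHeartbeats 800000

universe u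

open scoped Classical
open DirectSum Groth.Agent.GrLCLib

noncomputable section

namespace Groth.Agent.GrTopDual

variable {k : Type u} [Field k] {R : Type u} [CommRing R] [Algebra k R] {𝒜 : ℤ → Submodule k R} [GradedAlgebra 𝒜]
variable {a : HomogeneousIdeal 𝒜} {n : ℕ} {I : GrLC.StarInjRes 𝒜 𝒜} [Module k (I.H a n)]
  [IsScalarTower k R (I.H a n)] [DirectSum.Decomposition (I.Hgr a n)]
variable {K : Type u} [AddCommGroup K] [Module R K] [Module k K] [IsScalarTower k R K]
  {𝒦 : ℤ → AddSubgroup K} [DirectSum.Decomposition 𝒦] [SetLike.GradedSMul 𝒜 𝒦]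
  {βK : K →ₗ[k] I.H a n →ₗ[k] k} (hK : GrSeg.IsGDual R (I.Hgr a n) 𝒦 βK)
variable {M : Type u} [AddCommGroup M] [Module R M]
  {ℳ : ℤ → AddSubgroup M} [DirectSum.Decomposition ℳ] [SetLike.GradedSMul 𝒜 ℳ]
variable {EM : GrLC.StarInjRes 𝒜 ℳ} [Module k (EM.H a n)] [IsScalarTower k R (EM.H a n)]
  [DirectSum.Decomposition (EM.Hgr a n)]
variable {D : Type u} [AddCommGroup D] [Module R D] [Module k D] [IsScalarTower k R D]
  {𝒟 : ℤ → AddSubgroup D} [DirectSum.Decomposition 𝒟] [SetLike.GradedSMul 𝒜 𝒟]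
  {βD : D →ₗ[k] EM.H a n →ₗ[k] k} (hD : GrSeg.IsGDual R (EM.Hgr a n) 𝒟 βD)

lemma pr_phi {e : ℤ} {m : M} (hm : m ∈ ℳ e) (g : ℤ) (x : I.H a n) :
    pr (EM.Hgr a n) (g + e) (phi a n I EM m x) = phi a n I EM m (pr (I.Hgr a n) g x) :=
  pr_map_deg (I.Hgr a n) (EM.Hgr a n) (f := phi a n I EM m) (fun _ _ hy => phi_mem a n I EM hm hy) g x

include hK hD in
lemma exists_homog_image {δ e : ℤ} {d : D} (hd : d ∈ 𝒟 δ) {m : M} (hm : m ∈ ℳ e) :
    ∃ z ∈ 𝒦 (e + δ), ∀ x, βK z x = βD d (phi a n I EM m x) := by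
  obtain ⟨z, hz, hzx⟩ := hK.exists_eq (e + δ) ((βD d).comp ((phi a n I EM m).restrictScalars k))
  refine ⟨z, hz, fun x => ?_⟩
  rw [GrDual.pairing_left 𝒜 hK hz x, hzx _ (pr_mem _ _ x), LinearMap.comp_apply, LinearMap.restrictScalars_apply,
    ← pr_phi hm, show -(e + δ) + e = -δ by ring]
  exact (GrDual.pairing_left 𝒜 hD hd _).symm

include hK hD in
lemma exists_image (d : D) (m : M) : ∃ z, ∀ x, βK z x = βD d (phi a n I EM m x) := by
  induction m using DirectSum.Decomposition.inductionOn ℳ with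
  | zero => exact ⟨0, fun x => by simp⟩
  | @homogeneous e m =>
    induction d using DirectSum.Decomposition.inductionOn 𝒟 with
    | zero => exact ⟨0, fun x => by simp⟩
    | @homogeneous δ d =>
      obtain ⟨z, -, hz⟩ := exists_homog_image hK hD d.2 m.2
      exact ⟨z, hz⟩
    | add p q hp hq =>
      obtain ⟨z, hz⟩ := hp
      obtain ⟨w, hw⟩ := hq
      exact ⟨z + w, fun x => by simp [hz, hw]⟩
  | add p q hp hq =>
    obtain ⟨z, hz⟩ := hp
    obtain ⟨w, hw⟩ := hq
    exact ⟨z + w, fun x => by simp [hz, hw]⟩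

include hK hD in
/-- The map from the dual of `H(M)` to the maps into the canonical module. -/
theorem exists_dualMap : ∃ ε : D →ₗ[R] (M →ₗ[R] K), (∀ d m x, βK (ε d m) x = βD d (phi a n I EM m x)) ∧
    ∀ δ, ∀ d ∈ 𝒟 δ, GrLC.IsGrHomDeg ℳ 𝒦 (ε d) δ := by
  choose F hF using fun d m => exists_image (𝒜 := 𝒜) hK hD d m
  have hinj := GrDual.injective_pairing 𝒜 hK
  have hhom : ∀ δ, ∀ d ∈ 𝒟 δ, ∀ g, ∀ m ∈ ℳ g, F d m ∈ 𝒦 (g + δ) := fun δ d hd g m hm => by
    have h1 := exists_homog_image (𝒜 := 𝒜) (ℳ := ℳ) (EM := EM) hK hD hd hm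
    obtain ⟨z, hz, hzx⟩ := h1
    have e : βK (F d m) = βK z := LinearMap.ext fun x => (hF d m x).trans (hzx x).symm
    rw [hinj e]
    exact hz
  refine ⟨{
    toFun := fun d =>
      { toFun := F d
        map_add' := fun m m' => hinj (LinearMap.ext fun x => by
          rw [βK.map_add, LinearMap.add_apply, hF, hF, hF, (phi a n I EM).map_add, LinearMap.add_apply, (βD d).map_add])
        map_smul' := fun r m => hinj (LinearMap.ext fun x => by
          rw [RingHom.id_apply, hK.map_smul, hF, hF, (phi a n I EM).map_smul r m, LinearMap.smul_apply,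
            (phi a n I EM m).map_smul r x]) }
    map_add' := fun d d' => LinearMap.ext fun m => hinj (LinearMap.ext fun x => by
      show βK (F (d + d') m) x = βK (F d m + F d' m) x
      rw [βK.map_add, LinearMap.add_apply, hF, hF, hF, βD.map_add, LinearMap.add_apply])
    map_smul' := fun r d => LinearMap.ext fun m => hinj (LinearMap.ext fun x => by
      show βK (F (r • d) m) x = βK (r • F d m) x
      rw [hK.map_smul, hF, hF, (phi a n I EM m).map_smul r x, hD.map_smul]) }, hF, hhom⟩

variable [IsNoetherianRing R] [Module.Finite R M] (hvan : ∀ (Q : Type u) [AddCommGroup Q] [Module R Q],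
  Subsingleton (LocCoh.H a.toIdeal (n + 1) Q))

include hvan hK hD in
/-- Every map into the canonical module comes from the dual, and only from one element. -/
theorem bijective_dualMap (ε : D →ₗ[R] (M →ₗ[R] K)) (hε : ∀ d m x, βK (ε d m) x = βD d (phi a n I EM m x)) :
    Function.Bijective ε := by
  obtain ⟨s, e, y, hy, hspan⟩ := exists_homog_spanning (R := R) ℳ
  have hinjK := GrDual.injective_pairing 𝒜 hK
  let Ψ : (Fin s → I.H a n) →ₗ[k] EM.H a n :=
    ∑ i, ((phi a n I EM (y i)).restrictScalars k).comp (LinearMap.proj i)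
  have hΨ : ∀ v, Ψ v = ∑ i, phi a n I EM (y i) (v i) := fun v => by simp [Ψ]
  have hsurj : Function.Surjective Ψ := fun x => by
    obtain ⟨v, hv⟩ := exists_phi_preimage a n I EM hvan hy hspan x
    exact ⟨v, (hΨ v).trans hv⟩
  refine ⟨(injective_iff_map_eq_zero ε).2 fun d hd => GrDual.injective_pairing 𝒜 hD (LinearMap.ext fun x => ?_),
    fun f => ?_⟩
  · obtain ⟨v, rfl⟩ := hsurj x
    rw [hΨ, map_sum, map_zero, LinearMap.zero_apply]
    exact Finset.sum_eq_zero fun i _ => by rw [← hε, hd]; simp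
  let T : (Fin s → I.H a n) →ₗ[k] k := ∑ i, (βK (f (y i))).comp (LinearMap.proj i)
  have hT : ∀ v, T v = ∑ i, βK (f (y i)) (v i) := fun v => by simp [T]
  have hker : LinearMap.ker Ψ ≤ LinearMap.ker T := fun v hv => by
    rw [LinearMap.mem_ker, hΨ] at hv
    obtain ⟨t, κ, w, hκ, hw⟩ := exists_relations a n I EM hvan hy hspan v hv
    rw [LinearMap.mem_ker, hT]
    calc ∑ i, βK (f (y i)) (v i) = ∑ i, ∑ j, βK (f (κ j i • y i)) (w j) := Finset.sum_congr rfl fun i _ => by
          rw [hw i, map_sum]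
          exact Finset.sum_congr rfl fun j _ => by rw [map_smul f, hK.map_smul]
      _ = ∑ j, βK (f (∑ i, κ j i • y i)) (w j) := by
          rw [Finset.sum_comm]
          exact Finset.sum_congr rfl fun j _ => by rw [map_sum, map_sum, LinearMap.sum_apply]
      _ = 0 := Finset.sum_eq_zero fun j _ => by rw [hκ j]; simp
  let G : EM.H a n →ₗ[k] k := (Submodule.liftQ (LinearMap.ker Ψ) T hker).comp
    (Ψ.quotKerEquivOfSurjective hsurj).symm.toLinearMap
  have hG : ∀ i x, G (phi a n I EM (y i) x) = βK (f (y i)) x := fun i x => by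
    have h1 : Ψ (Pi.single i x) = phi a n I EM (y i) x := by
      rw [hΨ]
      refine (Finset.sum_eq_single i (fun j _ hj => by rw [Pi.single_eq_of_ne hj, map_zero]) (by simp)).trans ?_
      rw [Pi.single_eq_same]
    have h2 : T (Pi.single i x) = βK (f (y i)) x := by
      rw [hT]
      refine (Finset.sum_eq_single i (fun j _ hj => by rw [Pi.single_eq_of_ne hj, map_zero]) (by simp)).trans ?_
      rw [Pi.single_eq_same]
    rw [← h1, ← h2]
    show Submodule.liftQ (LinearMap.ker Ψ) T hker ((Ψ.quotKerEquivOfSurjective hsurj).symm (Ψ (Pi.single i x))) = _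
    rw [show (Ψ.quotKerEquivOfSurjective hsurj).symm (Ψ (Pi.single i x)) = Submodule.Quotient.mk (Pi.single i x) from
      (LinearEquiv.symm_apply_eq _).2 rfl]
    rfl
  let Δ : Finset ℤ := Finset.univ.biUnion fun i => (DirectSum.decompose 𝒦 (f (y i))).support.image fun g => g - e i
  choose c hc hcG using fun δ => hD.exists_eq δ G
  refine ⟨∑ δ ∈ Δ, c δ, LinearMap.ext_on_range hspan fun i => hinjK (LinearMap.ext fun x => ?_)⟩
  rw [hε]
  induction x using DirectSum.Decomposition.inductionOn (I.Hgr a n) with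
  | zero => simp
  | add p q hp hq => simp only [map_add, hp, hq]
  | @homogeneous g x =>
    have hmem : phi a n I EM (y i) (x : I.H a n) ∈ EM.Hgr a n (g + e i) := phi_mem a n I EM (hy i) x.2
    rw [map_sum, LinearMap.sum_apply, Finset.sum_eq_single (-(g + e i))
      (fun δ _ hδ => hD.vanish δ _ (hc δ) _ (by omega) _ hmem)
      fun hn => ?_]
    · rw [hcG _ _ (by rwa [neg_neg]), hG]
    · -- the component of the image that this degree would need is zero
      have h0 : pr 𝒦 (-g) (f (y i)) = 0 := by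
        by_contra hne
        exact hn (Finset.mem_biUnion.2 ⟨i, Finset.mem_univ i, Finset.mem_image.2
          ⟨-g, DFinsupp.mem_support_iff.2 fun h => hne (congrArg Subtype.val h), by ring⟩⟩)
      rw [hcG _ _ (by rwa [neg_neg]), hG, GrDual.pairing_right 𝒜 hK x.2, h0, map_zero, LinearMap.zero_apply]

end Groth.Agent.GrTopDual
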