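import Groth.Agent.GrTopDual.Exact
import Groth.Agent.GrLCLib.ToAdd
import Groth.Agent.GrLCLib.ExtStarInj
import Groth.Agent.GrLCLib.Bridge

/-!
# Top graded local cohomology of a finite module is that of the ring tensored with the module

Multiplication by an element `m` induces a map `H(R) → H(M)`; for generators `y i` of `M` these maps are
jointly surjective and their relations come from the relations of the generators.
-/

set_option autoImplicit false
set_option linter.unusedSectionVars false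
set_option linter.style.haveILetI false
set_option backward.isDefEq.respectTransparency false

universe u

open scoped Classical
open DirectSum Groth.Agent.GrLCLib

noncomputable section

namespace Groth.Agent.GrTopDual

variable {ι : Type} [AddCommGroup ι] [DecidableEq ι]
variable {R : Type u} [CommRing R] {σ : Type u} [SetLike σ R] [AddSubgroupClass σ R] {𝒜 : ι → σ} [GradedRing 𝒜]
variable {M : Type u} [AddCommGroup M] [Module R M] {ℳ : ι → AddSubgroup M} [DirectSum.Decomposition ℳ]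
  [SetLike.GradedSMul 𝒜 ℳ]

lemma isGrHomDeg_span {e : ι} {m : M} (hm : m ∈ ℳ e) :
    GrLC.IsGrHomDeg 𝒜 ℳ (LinearMap.toSpanSingleton R M m) e := fun g r hr => by
  rw [LinearMap.toSpanSingleton_apply]
  exact GrLCLib.smul_mem 𝒜 ℳ hr hm

variable (a : HomogeneousIdeal 𝒜) (n : ℕ) (I : GrLC.StarInjRes 𝒜 𝒜) (EM : GrLC.StarInjRes 𝒜 ℳ)

/-- The maps induced by multiplication by homogeneous elements. -/
def phiPiece (e : ι) : ℳ e →+ (I.H a n →ₗ[R] EM.H a n) where
  toFun m := Hmap a n I EM (LinearMap.toSpanSingleton R M m) e (isGrHomDeg_span m.2)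
  map_zero' := by
    have h : GrLC.IsGrHomDeg 𝒜 ℳ (0 : R →ₗ[R] M) e := fun g r _ => zero_mem _
    rw [Hmap_congr a n (show LinearMap.toSpanSingleton R M ((0 : ℳ e) : M) = 0 from
      LinearMap.ext fun r => smul_zero r) rfl _ h, Hmap_zero a n h]
  map_add' x y := by
    have h : GrLC.IsGrHomDeg 𝒜 ℳ (LinearMap.toSpanSingleton R M (x : M) + LinearMap.toSpanSingleton R M (y : M)) e :=
      fun g r hr => add_mem (isGrHomDeg_span x.2 g r hr) (isGrHomDeg_span y.2 g r hr)
    rw [Hmap_congr a n (show LinearMap.toSpanSingleton R M ((x + y : ℳ e) : M) =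
      LinearMap.toSpanSingleton R M (x : M) + LinearMap.toSpanSingleton R M (y : M) from
        LinearMap.ext fun r => smul_add r (x : M) (y : M)) rfl _ h,
      Hmap_add a n (isGrHomDeg_span x.2) (isGrHomDeg_span y.2) h]

/-- The maps induced by multiplication. -/
def phiAdd : M →+ (I.H a n →ₗ[R] EM.H a n) :=
  (DirectSum.toAddMonoid (phiPiece a n I EM)).comp (DirectSum.decomposeAddEquiv ℳ).toAddMonoidHom

lemma phiAdd_of_mem {e : ι} {m : M} (hm : m ∈ ℳ e) :
    phiAdd a n I EM m = Hmap a n I EM (LinearMap.toSpanSingleton R M m) e (isGrHomDeg_span hm) := by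
  simp only [phiAdd, AddMonoidHom.comp_apply, AddEquiv.coe_toAddMonoidHom, DirectSum.decomposeAddEquiv_apply,
    DirectSum.decompose_of_mem ℳ hm, DirectSum.toAddMonoid_of]
  rfl

lemma phiAdd_smul (r : R) (m : M) : phiAdd a n I EM (r • m) = r • phiAdd a n I EM m := by
  induction r using DirectSum.Decomposition.inductionOn 𝒜 with
  | zero => rw [zero_smul, map_zero, zero_smul]
  | @homogeneous e q =>
    induction m using DirectSum.Decomposition.inductionOn ℳ with
    | zero => rw [smul_zero, map_zero, smul_zero]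
    | @homogeneous g y =>
      have h1 : (q : R) • (y : M) ∈ ℳ (e + g) := GrLCLib.smul_mem 𝒜 ℳ q.2 y.2
      have h2 : GrLC.IsGrHomDeg 𝒜 ℳ ((q : R) • LinearMap.toSpanSingleton R M (y : M)) (e + g) := fun j r hr => by
        have := isGrHomDeg_span (𝒜 := 𝒜) h1 j r hr
        rwa [LinearMap.toSpanSingleton_apply, smul_comm] at this
      rw [phiAdd_of_mem a n I EM h1, phiAdd_of_mem a n I EM y.2,
        Hmap_congr a n (show LinearMap.toSpanSingleton R M ((q : R) • (y : M)) =
          (q : R) • LinearMap.toSpanSingleton R M (y : M) from LinearMap.ext fun r => smul_comm r (q : R) (y : M)) rfl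
          _ h2,
        Hmap_smul a n q.2 rfl (isGrHomDeg_span y.2) h2]
    | add x y hx hy => rw [smul_add, map_add, hx, hy, map_add, smul_add]
  | add x y hx hy => rw [add_smul, map_add, hx, hy, add_smul]

/-- Multiplication induces `M → Hom(H(R), H(M))`. -/
def phi : M →ₗ[R] I.H a n →ₗ[R] EM.H a n :=
  { toFun := phiAdd a n I EM, map_add' := map_add _, map_smul' := phiAdd_smul a n I EM }

lemma phi_of_mem {e : ι} {m : M} (hm : m ∈ ℳ e) :
    phi a n I EM m = Hmap a n I EM (LinearMap.toSpanSingleton R M m) e (isGrHomDeg_span hm) :=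
  phiAdd_of_mem a n I EM hm

lemma phi_mem {e g : ι} {m : M} (hm : m ∈ ℳ e) {x : I.H a n} (hx : x ∈ I.Hgr a n g) :
    phi a n I EM m x ∈ EM.Hgr a n (g + e) := by
  rw [phi_of_mem a n I EM hm]
  exact Hmap_mem a n _ hx

attribute [irreducible] phi

lemma Hmap_span_self {c : ι} {r : R} (hr : r ∈ 𝒜 c) (h : GrLC.IsGrHomDeg 𝒜 𝒜 (LinearMap.toSpanSingleton R R r) c)
    (x : I.H a n) : Hmap a n I I (LinearMap.toSpanSingleton R R r) c h x = r • x := by
  let χ : DMap I I (LinearMap.toSpanSingleton R R r) c :=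
    { φ := fun _ => r • LinearMap.id
      gr := fun i g y hy => by
        rw [add_comm g c]
        exact GrLCLib.smul_mem 𝒜 (I.X i).gr hr hy
      ε := fun q => by
        rw [LinearMap.smul_apply, LinearMap.id_apply, LinearMap.toSpanSingleton_apply, ← map_smul]
        exact congrArg _ (mul_comm r q)
      comm := fun i y => by simp }
  rw [Hmap_eq a n χ]
  obtain ⟨w, rfl⟩ := Submodule.Quotient.mk_surjective _ x
  exact map_smul (I.toH a n) r w

section Free

variable {s : ℕ} (e : Fin s → ι)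

instance freePiece_addGr_gradedSMul : SetLike.GradedSMul 𝒜 (freePiece (addGr 𝒜) e) :=
  ⟨fun {i g r v} hr hv j => by
    rw [vadd_eq_add, add_sub_assoc]
    exact SetLike.mul_mem_graded (A := 𝒜) hr (hv j)⟩

instance freePiece_addGr_dec : DirectSum.Decomposition (freePiece (addGr 𝒜) e) :=
  (isInternal_freePiece (addGr 𝒜) e).chooseDecomposition

variable {e} {y : Fin s → M}

lemma isGrHom_comb (hy : ∀ i, y i ∈ ℳ (e i)) :
    GrLC.IsGrHom (freePiece (addGr 𝒜) e) ℳ (Fintype.linearCombination R y) := fun g v hv => by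
  rw [Fintype.linearCombination_apply]
  refine sum_mem fun i _ => ?_
  have h := GrLCLib.smul_mem 𝒜 ℳ (show v i ∈ 𝒜 (g - e i) from hv i) (hy i)
  rwa [sub_add_cancel] at h

lemma isGrHomDeg_single (i : Fin s) :
    GrLC.IsGrHomDeg 𝒜 (freePiece (addGr 𝒜) e) (LinearMap.single R (fun _ : Fin s => R) i) (e i) := fun g r hr j => by
  rw [LinearMap.single_apply]
  by_cases h : j = i
  · subst h
    rw [Pi.single_eq_same, add_sub_cancel_right]
    exact hr
  · rw [Pi.single_eq_of_ne h]
    exact zero_mem _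

lemma isGrHomDeg_proj (i : Fin s) :
    GrLC.IsGrHomDeg (freePiece (addGr 𝒜) e) 𝒜 (LinearMap.proj i : (Fin s → R) →ₗ[R] R) (-e i) := fun g v hv => by
  rw [← sub_eq_add_neg]
  exact hv i

lemma sum_single_proj : ∑ i : Fin s, (LinearMap.single R (fun _ : Fin s => R) i) ∘ₗ LinearMap.proj i = LinearMap.id := by
  refine LinearMap.ext fun v => ?_
  rw [LinearMap.sum_apply]
  exact Finset.univ_sum_single v

end Free

variable [IsNoetherianRing R] (hvan : ∀ (Q : Type u) [AddCommGroup Q] [Module R Q],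
  Subsingleton (LocCoh.H a.toIdeal (n + 1) Q))

include hvan

/-- The maps attached to generators are jointly surjective. -/
theorem exists_phi_preimage {s : ℕ} {e : Fin s → ι} {y : Fin s → M} (hy : ∀ i, y i ∈ ℳ (e i))
    (hspan : Submodule.span R (Set.range y) = ⊤) (x : EM.H a n) :
    ∃ v : Fin s → I.H a n, ∑ i, phi a n I EM (y i) (v i) = x := by
  let π := Fintype.linearCombination R y
  have hπ : GrLC.IsGrHom (freePiece (addGr 𝒜) e) ℳ π := isGrHom_comb hy
  have hsurj : Function.Surjective π :=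
    LinearMap.range_eq_top.1 ((Fintype.range_linearCombination R y).trans hspan)
  let K := LinearMap.ker π
  letI := subDec (freePiece (addGr 𝒜) e) K (homog_ker (freePiece (addGr 𝒜) e) ℳ hπ)
  obtain ⟨EF⟩ := nonempty_starInjRes (𝒜 := 𝒜) (freePiece (addGr 𝒜) e)
  obtain ⟨EK⟩ := nonempty_starInjRes (𝒜 := 𝒜) (subPiece (freePiece (addGr 𝒜) e) K)
  have hs : IsSES (subPiece (freePiece (addGr 𝒜) e) K) (freePiece (addGr 𝒜) e) ℳ K.subtype π :=
    ⟨K.injective_subtype, hsurj, K.range_subtype, subtype_grHom _ K, hπ⟩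
  have hπ0 : GrLC.IsGrHomDeg (freePiece (addGr 𝒜) e) ℳ π 0 := fun g v hv => by
    rw [add_zero]; exact hπ g v hv
  have hK : Subsingleton (EK.H a (n + 1)) := by
    obtain ⟨eq⟩ := H_equiv_localCohomology EK a (n + 1)
    haveI := hvan K
    exact eq.toEquiv.subsingleton
  obtain ⟨z, rfl⟩ := Hmap_surjective a hs EK EF EM n hK hπ0 x
  refine ⟨fun i => Hmap a n EF I (LinearMap.proj i) (-e i) (isGrHomDeg_proj i) z, ?_⟩
  have hid : GrLC.IsGrHomDeg (freePiece (addGr 𝒜) e) (freePiece (addGr 𝒜) e)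
      (LinearMap.id : (Fin s → R) →ₗ[R] (Fin s → R)) (0 : ι) := fun g v hv => by rw [add_zero]; exact hv
  have hc : ∀ i, GrLC.IsGrHomDeg (freePiece (addGr 𝒜) e) (freePiece (addGr 𝒜) e)
      ((LinearMap.single R (fun _ : Fin s => R) i) ∘ₗ LinearMap.proj i) (0 : ι) := fun i g v hv => by
    have := isGrHomDeg_single (𝒜 := 𝒜) (e := e) i _ _ (isGrHomDeg_proj (𝒜 := 𝒜) (e := e) i g v hv)
    rwa [add_assoc, neg_add_cancel] at this
  conv_rhs => rw [← Hmap_id a n hid z, Hmap_congr a n sum_single_proj.symm rfl hid (isGrHomDeg_sum _ _ hc),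
    Hmap_sum a n _ _ hc, LinearMap.sum_apply, map_sum]
  refine Finset.sum_congr rfl fun i _ => ?_
  have hμ : GrLC.IsGrHomDeg 𝒜 ℳ (π ∘ₗ LinearMap.single R (fun _ : Fin s => R) i) (e i) := fun g r hr => by
    have := hπ0 _ _ (isGrHomDeg_single (𝒜 := 𝒜) (e := e) i g r hr)
    rwa [add_zero] at this
  rw [Hmap_comp a n (E' := I) (neg_add_cancel (e i)) (isGrHomDeg_proj i) (isGrHomDeg_single i) (hc i),
    ← Hmap_comp a n (E' := EF) (add_zero (e i)) (isGrHomDeg_single i) hπ0 hμ, phi_of_mem a n I EM (hy i)]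
  exact LinearMap.congr_fun (Hmap_congr a n (LinearMap.ext_ring (by simp [π, Fintype.linearCombination_apply_single]))
    rfl _ _) _

/-- Relations between the maps attached to generators come from relations between the generators. -/
theorem exists_relations {s : ℕ} {e : Fin s → ι} {y : Fin s → M} (hy : ∀ i, y i ∈ ℳ (e i))
    (hspan : Submodule.span R (Set.range y) = ⊤) (v : Fin s → I.H a n)
    (hv : ∑ i, phi a n I EM (y i) (v i) = 0) :
    ∃ (t : ℕ) (κ : Fin t → Fin s → R) (w : Fin t → I.H a n),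
      (∀ j, ∑ i, κ j i • y i = 0) ∧ ∀ i, v i = ∑ j, κ j i • w j := by
  let π := Fintype.linearCombination R y
  have hπ : GrLC.IsGrHom (freePiece (addGr 𝒜) e) ℳ π := isGrHom_comb hy
  have hsurj : Function.Surjective π :=
    LinearMap.range_eq_top.1 ((Fintype.range_linearCombination R y).trans hspan)
  let K := LinearMap.ker π
  letI := subDec (freePiece (addGr 𝒜) e) K (homog_ker (freePiece (addGr 𝒜) e) ℳ hπ)
  obtain ⟨EF⟩ := nonempty_starInjRes (𝒜 := 𝒜) (freePiece (addGr 𝒜) e)
  obtain ⟨EK⟩ := nonempty_starInjRes (𝒜 := 𝒜) (subPiece (freePiece (addGr 𝒜) e) K)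
  have hs : IsSES (subPiece (freePiece (addGr 𝒜) e) K) (freePiece (addGr 𝒜) e) ℳ K.subtype π :=
    ⟨K.injective_subtype, hsurj, K.range_subtype, subtype_grHom _ K, hπ⟩
  have hπ0 : GrLC.IsGrHomDeg (freePiece (addGr 𝒜) e) ℳ π 0 := fun g v hv => by
    rw [add_zero]; exact hπ g v hv
  have hj0 : GrLC.IsGrHomDeg (subPiece (freePiece (addGr 𝒜) e) K) (freePiece (addGr 𝒜) e) K.subtype 0 :=
    fun g v hv => by rw [add_zero]; exact hv
  let Z : EF.H a n := ∑ i, Hmap a n I EF (LinearMap.single R (fun _ : Fin s => R) i) (e i) (isGrHomDeg_single i) (v i)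
  have hZ : Hmap a n EF EM π 0 hπ0 Z = 0 := by
    rw [map_sum]
    refine (Finset.sum_congr rfl fun i _ => ?_).trans hv
    have hμ : GrLC.IsGrHomDeg 𝒜 ℳ (π ∘ₗ LinearMap.single R (fun _ : Fin s => R) i) (e i) := fun g r hr => by
      have := hπ0 _ _ (isGrHomDeg_single (𝒜 := 𝒜) (e := e) i g r hr)
      rwa [add_zero] at this
    rw [← Hmap_comp a n (E' := EF) (add_zero (e i)) (isGrHomDeg_single i) hπ0 hμ, phi_of_mem a n I EM (hy i)]
    exact LinearMap.congr_fun (Hmap_congr a n (LinearMap.ext_ring (by simp [π, Fintype.linearCombination_apply_single]))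
      rfl _ _) _
  obtain ⟨W, hW⟩ := Hmap_exact a hs EK EF EM n hj0 hπ0 Z hZ
  obtain ⟨t, c, κ, hκ, hκs⟩ := exists_homog_spanning (R := R) (subPiece (freePiece (addGr 𝒜) e) K)
  obtain ⟨w, hw⟩ := exists_phi_preimage a n I EK hvan hκ hκs W
  refine ⟨t, fun j => (κ j : Fin s → R), w, fun j => ?_, fun i => ?_⟩
  · have := LinearMap.mem_ker.1 (κ j).2
    rwa [Fintype.linearCombination_apply] at this
  have hl : Hmap a n EF I (LinearMap.proj i) (-e i) (isGrHomDeg_proj i) Z = v i := by
    have hpc : ∀ j, GrLC.IsGrHomDeg 𝒜 𝒜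
        ((LinearMap.proj i : (Fin s → R) →ₗ[R] R) ∘ₗ LinearMap.single R (fun _ : Fin s => R) j) (e j + -e i) :=
      fun j g r hr => by
        have := isGrHomDeg_proj (𝒜 := 𝒜) (e := e) i _ _ (isGrHomDeg_single (𝒜 := 𝒜) (e := e) j g r hr)
        rwa [add_assoc] at this
    rw [map_sum]
    refine (Finset.sum_eq_single i (fun j _ hj => ?_) fun h => absurd (Finset.mem_univ i) h).trans ?_
    · have h0 : GrLC.IsGrHomDeg 𝒜 𝒜 (0 : R →ₗ[R] R) (e j + -e i) := fun g r _ => zero_mem _
      rw [← Hmap_comp a n (E' := EF) rfl (isGrHomDeg_single j) (isGrHomDeg_proj i) (hpc j),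
        Hmap_congr a n (LinearMap.ext_ring (by simp [Pi.single_eq_of_ne (Ne.symm hj)])) rfl (hpc j) h0,
        Hmap_zero a n h0, LinearMap.zero_apply]
    · have h1 : GrLC.IsGrHomDeg 𝒜 𝒜 (LinearMap.id : R →ₗ[R] R) (0 : ι) := fun g r hr => by
        rw [add_zero]; exact hr
      rw [← Hmap_comp a n (E' := EF) rfl (isGrHomDeg_single i) (isGrHomDeg_proj i) (hpc i),
        Hmap_congr a n (LinearMap.ext_ring (by simp)) (add_neg_cancel (e i)) (hpc i) h1, Hmap_id a n h1]
  rw [← hl, ← hW, ← hw, map_sum, map_sum]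
  refine Finset.sum_congr rfl fun j _ => ?_
  have hjc : GrLC.IsGrHomDeg 𝒜 (freePiece (addGr 𝒜) e)
      (K.subtype ∘ₗ LinearMap.toSpanSingleton R K (κ j)) (c j) := fun g r hr => by
    have := hj0 _ _ (isGrHomDeg_span (𝒜 := 𝒜) (hκ j) g r hr)
    rwa [add_zero] at this
  have hpj : GrLC.IsGrHomDeg 𝒜 𝒜 ((LinearMap.proj i : (Fin s → R) →ₗ[R] R) ∘ₗ
      (K.subtype ∘ₗ LinearMap.toSpanSingleton R K (κ j))) (c j + -e i) := fun g r hr => by
    rw [← add_assoc]
    exact isGrHomDeg_proj (𝒜 := 𝒜) (e := e) i _ _ (hjc g r hr)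
  have hk : (κ j : Fin s → R) i ∈ 𝒜 (c j + -e i) := by
    rw [← sub_eq_add_neg]
    exact hκ j i
  have hself : GrLC.IsGrHomDeg 𝒜 𝒜 (LinearMap.toSpanSingleton R R ((κ j : Fin s → R) i)) (c j + -e i) :=
    fun g r hr => by
      rw [LinearMap.toSpanSingleton_apply]
      exact GrLCLib.smul_mem 𝒜 𝒜 hr hk
  rw [phi_of_mem a n I EK (hκ j), ← Hmap_comp a n (E' := EK) (add_zero (c j)) (isGrHomDeg_span (hκ j)) hj0 hjc,
    ← Hmap_comp a n (E' := EF) rfl hjc (isGrHomDeg_proj i) hpj,
    Hmap_congr a n (LinearMap.ext_ring (by simp)) rfl hpj (hself)]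
  exact Hmap_span_self a n I hk _ _

end Groth.Agent.GrTopDual
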